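import Groth.Agent.TFDualLib.Canonical
import Mathlib.RingTheory.Length
import Mathlib.Algebra.Algebra.Operations

/-!
# Lengths under duality with respect to a canonical module in dimension one
-/

set_option autoImplicit false
set_option linter.style.haveILetI false
set_option linter.unusedSectionVars false
universe u

open CategoryTheory Submodule
open Groth.Agent
open scoped Pointwise

namespace CanonLenLib

variable {O K : Type u} [CommRing O] [Field K] [Algebra O K]

/-- The length of the quotient of nested lattices. -/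
noncomputable def relLen (A B : Submodule O K) : ℕ∞ := Module.length O (↥B ⧸ A.comap B.subtype)

theorem relLen_add {A B C : Submodule O K} (hAB : A ≤ B) (hBC : B ≤ C) :
    relLen A C = relLen A B + relLen B C := by
  refine Module.length_eq_add_of_exact
    (mapQ (A.comap B.subtype) (A.comap C.subtype) (inclusion hBC) fun x hx => hx)
    (mapQ (A.comap C.subtype) (B.comap C.subtype) LinearMap.id fun x hx => hAB hx)
    ?_ (fun x => ?_) (fun x => ?_)
  · rw [← LinearMap.ker_eq_bot, Submodule.eq_bot_iff]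
    rintro x hx
    obtain ⟨x, rfl⟩ := Submodule.Quotient.mk_surjective _ x
    have h : Submodule.Quotient.mk (p := A.comap C.subtype) (inclusion hBC x) = 0 := LinearMap.mem_ker.1 hx
    rw [Submodule.Quotient.mk_eq_zero] at h
    exact (Submodule.Quotient.mk_eq_zero _).2 h
  · obtain ⟨x, rfl⟩ := Submodule.Quotient.mk_surjective _ x
    exact ⟨Submodule.Quotient.mk x, rfl⟩
  · obtain ⟨x, rfl⟩ := Submodule.Quotient.mk_surjective _ x
    change Submodule.Quotient.mk x = 0 ↔ _
    rw [Submodule.Quotient.mk_eq_zero]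
    constructor
    · exact fun hx => ⟨Submodule.Quotient.mk ⟨x.1, hx⟩, rfl⟩
    · rintro ⟨y, hy⟩
      obtain ⟨y, rfl⟩ := Submodule.Quotient.mk_surjective _ y
      have h := (Submodule.Quotient.eq _).1 hy
      have : (x : K) = y.1 - (y.1 - x.1) := by ring
      change (x : K) ∈ B
      rw [this]
      exact B.sub_mem y.2 (hAB h)

/-- Submodules of the quotient are intermediate lattices. -/
noncomputable def intervalIso {A B : Submodule O K} (hAB : A ≤ B) :
    {C : Submodule O K // A ≤ C ∧ C ≤ B} ≃o Submodule O (↥B ⧸ A.comap B.subtype) where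
  toFun C := (C.1.comap B.subtype).map (mkQ _)
  invFun P := ⟨(P.comap (mkQ _)).map B.subtype,
    fun a ha => ⟨⟨a, hAB ha⟩, by
      show Submodule.Quotient.mk _ ∈ P
      rw [(Submodule.Quotient.mk_eq_zero (p := A.comap B.subtype) (x := (⟨a, hAB ha⟩ : B))).2 ha]
      exact P.zero_mem, rfl⟩,
    map_subtype_le _ _⟩
  left_inv C := Subtype.ext (by
    show ((((C.1.comap B.subtype).map (mkQ _)).comap (mkQ _)).map B.subtype) = C.1
    rw [comap_map_mkQ, sup_eq_right.2 (comap_mono C.2.1), map_comap_subtype, inf_eq_right.2 C.2.2])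
  right_inv P := by
    show (((P.comap (mkQ _)).map B.subtype).comap B.subtype).map (mkQ _) = P
    rw [comap_map_eq_of_injective B.injective_subtype, map_comap_eq_of_surjective (mkQ_surjective _)]
  map_rel_iff' {C C'} := by
    refine ⟨fun h => ?_, fun h => map_mono (comap_mono h)⟩
    have h' := Submodule.map_mono (f := B.subtype) (Submodule.comap_mono (f := mkQ (A.comap B.subtype)) h)
    change (((C.1.comap B.subtype).map (mkQ _)).comap (mkQ _)).map B.subtype ≤
      (((C'.1.comap B.subtype).map (mkQ _)).comap (mkQ _)).map B.subtype at h'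
    rwa [comap_map_mkQ, comap_map_mkQ, sup_eq_right.2 (comap_mono C.2.1),
      sup_eq_right.2 (comap_mono C'.2.1), map_comap_subtype, map_comap_subtype, inf_eq_right.2 C.2.2,
      inf_eq_right.2 C'.2.2] at h'

variable [IsDomain O] [IsFractionRing O K] [IsNoetherianRing O] {W : Submodule O K} [Module.Finite O W] [Nontrivial W]

theorem le_div_div (C : Submodule O K) : C ≤ W / (W / C) := fun x hx => by
  rw [mem_div_iff_forall_mul_mem]
  intro y hy
  rw [mul_comm]
  exact mem_div_iff_forall_mul_mem.1 hy x hx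

theorem hom_mul {C : Submodule O K} (φ : C →ₗ[O] W) {c₀ : C} (hc : (c₀ : K) ≠ 0) (c : C) :
    (φ c : K) = (φ c₀ : K) / c₀ * c := by
  obtain ⟨a, b, hb, hab⟩ := IsFractionRing.div_surjective (A := O) ((c : K) / c₀)
  have hb' : algebraMap O K b ≠ 0 := IsFractionRing.to_map_ne_zero_of_mem_nonZeroDivisors hb
  have hw : (c : K) = algebraMap O K a / algebraMap O K b * c₀ := by rw [hab, div_mul_cancel₀ _ hc]
  have h1 : b • c = a • c₀ := Subtype.ext (by
    show b • (c : K) = a • (c₀ : K)
    rw [Algebra.smul_def, Algebra.smul_def, hw]; field_simp)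
  have h2 := congrArg (fun z => ((φ z : W) : K)) (h1)
  simp only [map_smul, Submodule.coe_smul, Algebra.smul_def] at h2
  apply mul_left_cancel₀ hb'
  rw [h2, hw]
  field_simp

/-- Biduality of lattices. -/
theorem div_div_eq (hd : TFDualLib.Dualising O W) {C : Submodule O K} (hC : C.FG) (hC0 : C ≠ ⊥)
    (hDC : W / C ≠ ⊥) : W / (W / C) = C := by
  refine le_antisymm (fun x hx => ?_) (le_div_div C)
  obtain ⟨c₀, hc₀, hc₀'⟩ := exists_mem_ne_zero_of_ne_bot hC0
  obtain ⟨a, ha, ha'⟩ := exists_mem_ne_zero_of_ne_bot hDC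
  haveI : NoZeroSMulDivisors O W := TFDualLib.noZeroSMulDivisors_sub W
  haveI : NoZeroSMulDivisors O C := TFDualLib.noZeroSMulDivisors_sub C
  haveI : Module.Finite O C := Module.Finite.iff_fg.2 hC
  have hm : ∀ φ : C →ₗ[O] W, (φ ⟨c₀, hc₀⟩ : K) / c₀ ∈ W / C := fun φ => by
    rw [mem_div_iff_forall_mul_mem]
    intro y hy
    rw [← hom_mul φ (c₀ := ⟨c₀, hc₀⟩) hc₀' ⟨y, hy⟩]
    exact (φ ⟨y, hy⟩).2
  let Φ : (C →ₗ[O] W) →ₗ[O] W :=
    { toFun := fun φ => ⟨x * ((φ ⟨c₀, hc₀⟩ : K) / c₀), mem_div_iff_forall_mul_mem.1 hx _ (hm φ)⟩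
      map_add' := fun φ ψ => Subtype.ext (by simp [add_div, mul_add])
      map_smul' := fun r φ => Subtype.ext (by
        simp only [LinearMap.smul_apply, Submodule.coe_smul, RingHom.id_apply, smul_div_assoc, mul_smul_comm]) }
  obtain ⟨c, hc⟩ := (TFDualLib.biEval_bijective hd C).2 Φ
  let μ : C →ₗ[O] W :=
    { toFun := fun z => ⟨a * (z : K), mem_div_iff_forall_mul_mem.1 ha z z.2⟩
      map_add' := fun z z' => Subtype.ext (by simp [mul_add])
      map_smul' := fun r z => Subtype.ext (by simp) }
  have e : a * (c : K) = x * (a * c₀ / c₀) := congrArg Subtype.val (LinearMap.congr_fun hc μ)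
  rw [mul_div_assoc, div_self hc₀', mul_one, mul_comm x] at e
  rw [← mul_left_cancel₀ ha' e]
  exact c.2

theorem div_antitone {A B : Submodule O K} (h : A ≤ B) : W / B ≤ W / A := fun _ hx =>
  mem_div_iff_forall_mul_mem.2 fun y hy => mem_div_iff_forall_mul_mem.1 hx y (h hy)

/-- Duality preserves lengths. -/
theorem relLen_div (hd : TFDualLib.Dualising O W) {A B : Submodule O K} (hAB : A ≤ B) (hA : A ≠ ⊥)
    (hB : B.FG) (hDB : W / B ≠ ⊥) (hDA : (W / A).FG) : relLen (W / B) (W / A) = relLen A B := by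
  have hCfg : ∀ C : {C : Submodule O K // A ≤ C ∧ C ≤ B}, W / (W / C.1) = C.1 := fun C => by
    haveI := isNoetherian_of_fg_of_noetherian B hB
    exact div_div_eq hd (isNoetherian_submodule.1 inferInstance _ C.2.2) (ne_bot_of_le_ne_bot hA C.2.1)
      (ne_bot_of_le_ne_bot hDB (div_antitone C.2.2))
  have hDfg : ∀ C : {C : Submodule O K // W / B ≤ C ∧ C ≤ W / A}, W / (W / C.1) = C.1 := fun C => by
    haveI := isNoetherian_of_fg_of_noetherian _ hDA
    refine div_div_eq hd (isNoetherian_submodule.1 inferInstance _ C.2.2) (ne_bot_of_le_ne_bot hDB C.2.1) ?_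
    exact ne_bot_of_le_ne_bot hA ((le_div_div A).trans (div_antitone C.2.2))
  have hAA : W / (W / A) = A := hCfg ⟨A, le_rfl, hAB⟩
  have hBB : W / (W / B) = B := hCfg ⟨B, hAB, le_rfl⟩
  let e : {C : Submodule O K // A ≤ C ∧ C ≤ B} ≃o {C : Submodule O K // W / B ≤ C ∧ C ≤ W / A}ᵒᵈ :=
    { toFun := fun C => OrderDual.toDual ⟨W / C.1, div_antitone C.2.2, div_antitone C.2.1⟩
      invFun := fun C => ⟨W / (OrderDual.ofDual C).1, hAA.ge.trans (div_antitone (OrderDual.ofDual C).2.2),
        (div_antitone (OrderDual.ofDual C).2.1).trans hBB.le⟩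
      left_inv := fun C => Subtype.ext (hCfg C)
      right_inv := fun C => congrArg OrderDual.toDual (Subtype.ext (hDfg (OrderDual.ofDual C)))
      map_rel_iff' := fun {C C'} => ⟨fun h => by
        have : W / (W / C.1) ≤ W / (W / C'.1) := div_antitone h
        rwa [hCfg, hCfg] at this, fun h => div_antitone h⟩ }
  rw [relLen, relLen, ← WithBot.coe_inj, Module.coe_length, Module.coe_length,
    ← Order.krullDim_eq_of_orderIso (intervalIso (div_antitone hAB)),
    ← Order.krullDim_eq_of_orderIso (intervalIso hAB), Order.krullDim_eq_of_orderIso e, Order.krullDim_orderDual]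

end CanonLenLib
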